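import Mathlib
import Groth.Prelude.Def_ArtFun2

universe u

open CategoryTheory IsLocalRing

namespace H9ArtLim

section K

variable {Λ : Type u} {k : Type u} [CommRing Λ] [Field k] [Algebra Λ k]

lemma map_maximalIdeal_of_surjective {B A' : ArtFun.Art Λ k} (g : B ⟶ A')
    (hg : Function.Surjective g) :
    (maximalIdeal B).map (g.toAlgHom : B →+* A') = maximalIdeal A' := by
  apply le_antisymm
  · rw [Ideal.map_le_iff_le_comap]
    intro b hb
    rw [Ideal.mem_comap]
    change g b ∈ _
    rw [ArtFun.Art.mem_maximalIdeal_iff, ArtFun.Art.res_app, ← ArtFun.Art.mem_maximalIdeal_iff]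
    exact hb
  · intro x hx
    obtain ⟨b, rfl⟩ := hg x
    apply Ideal.mem_map_of_mem
    rw [ArtFun.Art.mem_maximalIdeal_iff] at hx ⊢
    rw [← hx, ArtFun.Art.res_app]

lemma ker_le_maximalIdeal {B A' : ArtFun.Art Λ k} (g : B ⟶ A') :
    RingHom.ker (g.toAlgHom : B →+* A') ≤ maximalIdeal B := by
  intro x hx
  rw [ArtFun.Art.mem_maximalIdeal_iff, ← ArtFun.Art.res_app g]
  have : g x = 0 := hx
  rw [this, map_zero]

/-- If a surjection of local Artinian algebras does not change the minimal number of generators
of the maximal ideal, its kernel lies in the square of the maximal ideal. -/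
lemma ker_le_sq {B A' : ArtFun.Art Λ k} (g : B ⟶ A') (hg : Function.Surjective g)
    (ht : (maximalIdeal A').spanFinrank = (maximalIdeal B).spanFinrank) :
    RingHom.ker (g.toAlgHom : B →+* A') ≤ maximalIdeal B ^ 2 := by
  classical
  intro x hx
  obtain ⟨σ, hcard, hspan⟩ := Submodule.FG.exists_span_finset_card_eq_spanFinrank
    (Ideal.fg_of_isNoetherianRing (maximalIdeal B))
  have hxm : x ∈ maximalIdeal B := ker_le_maximalIdeal g hx
  have hσm : ∀ a ∈ σ, a ∈ maximalIdeal B := fun a ha => by
    rw [← hspan]; exact Submodule.subset_span ha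
  rw [← hspan] at hxm
  obtain ⟨c, -, hc⟩ := Submodule.mem_span_finset.1 hxm
  have hcm : ∀ a ∈ σ, c a ∈ maximalIdeal B := by
    intro a₀ ha₀
    by_contra hunit
    have hu : IsUnit (c a₀) := by
      by_contra h; exact hunit ((IsLocalRing.mem_maximalIdeal _).2 h)
    have hgu : IsUnit (g (c a₀)) := hu.map g.toAlgHom
    -- `g a₀` in the span of the others
    have h0 : ∑ a ∈ σ, g (c a) * g a = 0 := by
      have : g x = 0 := hx
      rw [← this, ← hc]
      change _ = g.toAlgHom _
      rw [map_sum]
      refine Finset.sum_congr rfl fun a _ => ?_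
      rw [smul_eq_mul, map_mul]
    rw [← Finset.add_sum_erase σ _ ha₀] at h0
    have hmem : g a₀ ∈ Ideal.span (((σ.erase a₀).image g : Finset A') : Set A') := by
      have h1 : g (c a₀) * g a₀ = -∑ a ∈ σ.erase a₀, g (c a) * g a := eq_neg_of_add_eq_zero_left h0
      obtain ⟨v, hv⟩ := hgu
      have h2 : g a₀ = ↑v⁻¹ * (g (c a₀) * g a₀) := by
        rw [← mul_assoc, ← hv, Units.inv_mul, one_mul]
      rw [h2, h1]
      apply Ideal.mul_mem_left
      apply neg_mem
      apply Ideal.sum_mem
      intro a ha
      apply Ideal.mul_mem_left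
      exact Ideal.subset_span (Finset.mem_coe.2 (Finset.mem_image_of_mem g ha))
    have hle : maximalIdeal A' ≤ Ideal.span (((σ.erase a₀).image g : Finset A') : Set A') := by
      rw [← map_maximalIdeal_of_surjective g hg, ← hspan]
      change Ideal.map _ (Ideal.span (σ : Set B)) ≤ _
      rw [Ideal.map_span, Ideal.span_le]
      rintro _ ⟨a, ha, rfl⟩
      by_cases h : a = a₀
      · subst h; exact hmem
      · exact Ideal.subset_span (Finset.mem_coe.2
          (Finset.mem_image_of_mem g (Finset.mem_erase.2 ⟨h, ha⟩)))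
    have hge : Ideal.span (((σ.erase a₀).image g : Finset A') : Set A') ≤ maximalIdeal A' := by
      rw [Ideal.span_le]
      intro y hy
      obtain ⟨a, ha, rfl⟩ := Finset.mem_image.1 (Finset.mem_coe.1 hy)
      have : a ∈ maximalIdeal B := hσm a (Finset.mem_of_mem_erase ha)
      rw [← map_maximalIdeal_of_surjective g hg]
      exact Ideal.mem_map_of_mem _ this
    have heq := le_antisymm hle hge
    have h3 : (maximalIdeal A').spanFinrank ≤ ((σ.erase a₀).image g).card := by
      rw [heq]
      have := Submodule.spanFinrank_span_le_ncard_of_finite (R := A')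
        (((σ.erase a₀).image g).finite_toSet)
      rwa [Set.ncard_coe_finset] at this
    have h4 : ((σ.erase a₀).image g).card ≤ σ.card - 1 := by
      rw [← Finset.card_erase_of_mem ha₀]; exact Finset.card_image_le
    have h5 : 0 < σ.card := Finset.card_pos.2 ⟨a₀, ha₀⟩
    rw [ht, ← hcard] at h3
    omega
  rw [← hc, pow_two]
  apply Ideal.sum_mem
  intro a ha
  rw [smul_eq_mul]
  exact Ideal.mul_mem_mul (hcm a ha) (hσm a ha)

end K

end H9ArtLim
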