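import Mathlib
import Groth.Prelude.Def_ArtFun2

universe u

open CategoryTheory IsLocalRing

namespace H9ArtLim

section Sys

variable {Λ : Type u} {k : Type u} [CommRing Λ] [Field k] [Algebra Λ k]
variable (A : ℕ → ArtFun.Art Λ k) (f : ∀ n, A (n + 1) ⟶ A n)

/-- transition morphisms of the inverse system -/
def tr {n m : ℕ} (h : n ≤ m) : A m ⟶ A n := (Functor.ofOpSequence f).map (homOfLE h).op

lemma tr_refl (n : ℕ) : tr A f (le_refl n) = 𝟙 (A n) :=
  (Functor.ofOpSequence f).map_id (Opposite.op n)

lemma tr_trans {n m l : ℕ} (h1 : n ≤ m) (h2 : m ≤ l) :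
    tr A f h2 ≫ tr A f h1 = tr A f (h1.trans h2) :=
  ((Functor.ofOpSequence f).map_comp (homOfLE h2).op (homOfLE h1).op).symm

lemma tr_succ (n : ℕ) : tr A f (Nat.le_succ n) = f n :=
  Functor.ofOpSequence_map_homOfLE_succ f n

lemma tr_trans_apply {n m l : ℕ} (h1 : n ≤ m) (h2 : m ≤ l) (x : A l) :
    tr A f h1 (tr A f h2 x) = tr A f (h1.trans h2) x := by
  rw [← tr_trans A f h1 h2]; rfl

lemma tr_refl_apply (n : ℕ) (x : A n) : tr A f (le_refl n) x = x := by
  rw [tr_refl]; rfl

lemma tr_succ_apply (n : ℕ) (x : A (n + 1)) : tr A f (Nat.le_succ n) x = f n x := by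
  rw [tr_succ]

/-- the limit of the system, as a subalgebra of the product -/
def limSub : Subalgebra Λ (∀ n, A n) where
  carrier := {a | ∀ n, f n (a (n + 1)) = a n}
  mul_mem' {a b} ha hb n := by
    change (f n).toAlgHom (a (n + 1) * b (n + 1)) = a n * b n
    rw [map_mul]; exact congrArg₂ _ (ha n) (hb n)
  add_mem' {a b} ha hb n := by
    change (f n).toAlgHom (a (n + 1) + b (n + 1)) = a n + b n
    rw [map_add]; exact congrArg₂ _ (ha n) (hb n)
  algebraMap_mem' r n := by
    change (f n).toAlgHom (algebraMap Λ (A (n + 1)) r) = algebraMap Λ (A n) r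
    exact (f n).toAlgHom.commutes r

/-- the limit ring -/
abbrev Lim : Type u := ↥(limSub A f)

/-- the projections -/
def proj (n : ℕ) : Lim A f →ₐ[Λ] A n :=
  (Pi.evalAlgHom Λ (fun n => (A n : Type u)) n).comp (limSub A f).val

lemma proj_apply (n : ℕ) (s : Lim A f) : proj A f n s = s.1 n := rfl

lemma proj_compat (n : ℕ) (s : Lim A f) : f n (proj A f (n + 1) s) = proj A f n s := s.2 n

lemma proj_tr {n m : ℕ} (h : n ≤ m) (s : Lim A f) : tr A f h (proj A f m s) = proj A f n s := by
  induction m, h using Nat.le_induction with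
  | base => exact tr_refl_apply A f n _
  | succ m h ih =>
    rw [← tr_trans_apply A f h (Nat.le_succ m), tr_succ_apply, proj_compat, ih]

lemma lim_ext {s t : Lim A f} (h : ∀ n, proj A f n s = proj A f n t) : s = t :=
  Subtype.ext (funext h)

/-- a compatible sequence as an element of the limit -/
def mkLim (a : ∀ n, A n) (ha : ∀ n, f n (a (n + 1)) = a n) : Lim A f := ⟨a, ha⟩

lemma proj_mkLim (a : ∀ n, A n) (ha : ∀ n, f n (a (n + 1)) = a n) (n : ℕ) :
    proj A f n (mkLim A f a ha) = a n := rfl

variable (hf : ∀ n, Function.Surjective (f n))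

include hf in
lemma proj_surjective (n : ℕ) : Function.Surjective (proj A f n) := by
  intro x
  -- lifts above level `n`
  let b : ∀ j, A (n + j) := fun j =>
    Nat.rec (motive := fun j => A (n + j)) x (fun j y => (hf (n + j) y).choose) j
  have hb : ∀ j, f (n + j) (b (j + 1)) = b j := fun j => (hf (n + j) (b j)).choose_spec
  have hb0 : ∀ j, tr A f (Nat.le_add_right n j) (b j) = x := by
    intro j
    induction j with
    | zero => exact tr_refl_apply A f n x
    | succ j ih =>
      rw [← tr_trans_apply A f (Nat.le_add_right n j) (Nat.le_succ (n + j)), tr_succ_apply, hb, ih]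
  refine ⟨mkLim A f (fun m => tr A f (Nat.le_add_left m n) (b m)) (fun m => ?_), ?_⟩
  · have e1 : f m (tr A f (Nat.le_add_left (m + 1) n) (b (m + 1))) =
        tr A f ((Nat.le_succ m).trans (Nat.le_add_left (m + 1) n)) (b (m + 1)) := by
      rw [← tr_succ_apply, tr_trans_apply]
    have e2 : tr A f ((Nat.le_succ m).trans (Nat.le_add_left (m + 1) n)) (b (m + 1)) =
        tr A f (Nat.le_add_left m n) (f (n + m) (b (m + 1))) := by
      rw [← tr_succ_apply A f (n + m), tr_trans_apply]
    rw [e1, e2, hb]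
  · rw [proj_mkLim]
    exact hb0 n

/-- the augmentation of the limit -/
def resLim : Lim A f →ₐ[Λ] k := (A 0).res.comp (proj A f 0)

lemma res_proj (n : ℕ) (s : Lim A f) : (A n).res (proj A f n s) = resLim A f s := by
  induction n with
  | zero => rfl
  | succ n ih => rw [← ih, ← proj_compat A f n s, ArtFun.Art.res_app]

include hf in
lemma resLim_surjective : Function.Surjective (resLim A f) := fun c => by
  obtain ⟨a, ha⟩ := (A 0).res_surjective c
  obtain ⟨s, hs⟩ := proj_surjective A f hf 0 a
  exact ⟨s, by change (A 0).res (proj A f 0 s) = c; rw [hs, ha]⟩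

lemma isUnit_proj_of_res_ne_zero (s : Lim A f) (h : resLim A f s ≠ 0) (n : ℕ) :
    IsUnit (proj A f n s) := by
  by_contra hu
  have : proj A f n s ∈ maximalIdeal (A n) := (IsLocalRing.mem_maximalIdeal _).2 hu
  rw [ArtFun.Art.mem_maximalIdeal_iff, res_proj] at this
  exact h this

lemma isUnit_of_res_ne_zero (s : Lim A f) (h : resLim A f s ≠ 0) : IsUnit s := by
  have hu := isUnit_proj_of_res_ne_zero A f s h
  let t : ∀ n, A n := fun n => ((hu n).unit⁻¹ : (A n)ˣ)
  have ht : ∀ n, f n (t (n + 1)) = t n := by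
    intro n
    apply Units.eq_inv_of_mul_eq_one_left
    change proj A f n s * f n (t (n + 1)) = 1
    rw [mul_comm]
    rw [← proj_compat A f n s]
    change (f n).toAlgHom (t (n + 1)) * (f n).toAlgHom (proj A f (n + 1) s) = 1
    rw [← map_mul]
    have : t (n + 1) * proj A f (n + 1) s = 1 := by
      change ((hu (n + 1)).unit⁻¹ : (A (n + 1))ˣ) * ((hu (n + 1)).unit : (A (n + 1))ˣ) = (1 : A (n + 1))
      rw [← Units.val_mul, inv_mul_cancel, Units.val_one]
    rw [this, map_one]
  refine IsUnit.of_mul_eq_one (mkLim A f t ht) ?_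
  apply lim_ext
  intro n
  rw [map_mul, proj_mkLim, map_one]
  change ((hu n).unit : (A n)ˣ) * ((hu n).unit⁻¹ : (A n)ˣ) = (1 : A n)
  rw [← Units.val_mul, mul_inv_cancel, Units.val_one]

lemma nontrivial_lim : Nontrivial (Lim A f) :=
  ⟨⟨0, 1, fun h => by
    have := congrArg (resLim A f) h
    rw [map_zero, map_one] at this
    exact zero_ne_one this⟩⟩

lemma isLocalRing_lim : IsLocalRing (Lim A f) := by
  have := nontrivial_lim A f
  refine IsLocalRing.of_isUnit_or_isUnit_one_sub_self fun s => ?_
  by_cases h : resLim A f s = 0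
  · right
    apply isUnit_of_res_ne_zero
    rw [map_sub, map_one, h, sub_zero]
    exact one_ne_zero
  · left
    exact isUnit_of_res_ne_zero A f s h

lemma mem_maximalIdeal_lim [IsLocalRing (Lim A f)] (s : Lim A f) :
    s ∈ maximalIdeal (Lim A f) ↔ resLim A f s = 0 := by
  rw [IsLocalRing.mem_maximalIdeal, mem_nonunits_iff]
  constructor
  · intro h
    by_contra h'
    exact h (isUnit_of_res_ne_zero A f s h')
  · intro h hu
    have := hu.map (resLim A f)
    rw [h] at this
    exact not_isUnit_zero this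

lemma mem_maximalIdeal_lim' [IsLocalRing (Lim A f)] (s : Lim A f) (n : ℕ) :
    s ∈ maximalIdeal (Lim A f) ↔ proj A f n s ∈ maximalIdeal (A n) := by
  rw [mem_maximalIdeal_lim, ArtFun.Art.mem_maximalIdeal_iff, res_proj]

end Sys

end H9ArtLim
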