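import Mathlib
import Groth.Prelude.Def_ArtFun2
import Groth.Agent.Lib.Helper9.ArtLim.Sys
import Groth.Agent.Lib.Helper9.ArtLim.K

universe u

open CategoryTheory IsLocalRing

namespace H9ArtLim

section Gen

variable {Λ : Type u} {k : Type u} [CommRing Λ] [Field k] [Algebra Λ k]
variable (A : ℕ → ArtFun.Art Λ k) (f : ∀ n, A (n + 1) ⟶ A n)
  (hf : ∀ n, Function.Surjective (f n))

include hf in
lemma tr_surjective {n m : ℕ} (h : n ≤ m) : Function.Surjective (tr A f h) := by
  intro x
  obtain ⟨s, hs⟩ := proj_surjective A f hf n x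
  exact ⟨proj A f m s, by rw [proj_tr, hs]⟩

lemma stab_nat (t : ℕ → ℕ) (hmono : Monotone t) (d : ℕ) (hb : ∀ n, t n ≤ d) :
    ∃ n₀, ∀ n, n₀ ≤ n → t n = t n₀ := by
  have hmax : ∃ n₀, ∀ n, t n ≤ t n₀ := by
    induction d with
    | zero => exact ⟨0, fun n => by have := hb n; have := hb 0; omega⟩
    | succ d ih =>
      by_cases h : ∃ n₀, t n₀ = d + 1
      · obtain ⟨n₀, hn₀⟩ := h
        exact ⟨n₀, fun n => by rw [hn₀]; exact hb n⟩
      · push_neg at h
        exact ih fun n => by have := hb n; have := h n; omega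
  obtain ⟨n₀, hn₀⟩ := hmax
  exact ⟨n₀, fun n hn => le_antisymm (hn₀ n) (hmono hn)⟩

/-- the minimal number of generators of the maximal ideal of `A n` -/
noncomputable def tgen (n : ℕ) : ℕ := (maximalIdeal (A n)).spanFinrank

include hf in
lemma tgen_mono : Monotone (tgen A) := by
  apply monotone_nat_of_le_succ
  intro n
  have h1 := Ideal.spanFinrank_map_le_of_fg ((f n).toAlgHom : A (n + 1) →+* A n)
    (Ideal.fg_of_isNoetherianRing (maximalIdeal (A (n + 1))))
  rw [map_maximalIdeal_of_surjective (f n) (hf n)] at h1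
  exact h1

lemma tgen_le (d : ℕ)
    (hd : ∀ n, Module.finrank (ResidueField (A n)) (CotangentSpace (A n)) ≤ d) (n : ℕ) :
    tgen A n ≤ d := by
  unfold tgen
  rw [IsLocalRing.spanFinrank_maximalIdeal_eq_finrank_cotangentSpace]
  exact hd n

/-- the ideal of `A n` generated by the images of a finite subset of the limit -/
noncomputable def genI (σ : Finset (Lim A f)) (n : ℕ) : Ideal (A n) :=
  Ideal.span ((fun s => proj A f n s) '' (σ : Set (Lim A f)))

lemma genI_map {n m : ℕ} (h : n ≤ m) (σ : Finset (Lim A f)) :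
    (genI A f σ m).map ((tr A f h).toAlgHom : A m →+* A n) = genI A f σ n := by
  unfold genI
  rw [Ideal.map_span, Set.image_image]
  congr 1
  apply Set.image_congr
  intro s _
  exact proj_tr A f h s

include hf in
/-- finitely many elements of the limit whose images generate every maximal ideal -/
theorem exists_gens (d : ℕ)
    (hd : ∀ n, Module.finrank (ResidueField (A n)) (CotangentSpace (A n)) ≤ d) :
    ∃ σ : Finset (Lim A f), ∀ n, genI A f σ n = maximalIdeal (A n) := by
  classical
  obtain ⟨n₀, hn₀⟩ := stab_nat (tgen A) (tgen_mono A f hf) d (tgen_le A d hd)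
  obtain ⟨σ₀, -, hσ₀⟩ := Submodule.FG.exists_span_finset_card_eq_spanFinrank
    (Ideal.fg_of_isNoetherianRing (maximalIdeal (A n₀)))
  let ℓ : A n₀ → Lim A f := Function.surjInv (proj_surjective A f hf n₀)
  have hℓ : ∀ x, proj A f n₀ (ℓ x) = x := Function.surjInv_eq _
  refine ⟨σ₀.image ℓ, ?_⟩
  have h0 : genI A f (σ₀.image ℓ) n₀ = maximalIdeal (A n₀) := by
    unfold genI
    rw [Finset.coe_image, Set.image_image]
    have : (fun x => proj A f n₀ (ℓ x)) '' (σ₀ : Set (A n₀)) = σ₀ := by
      simp only [hℓ, Set.image_id']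
    rw [this]
    exact hσ₀
  have hlow : ∀ n, n ≤ n₀ → genI A f (σ₀.image ℓ) n = maximalIdeal (A n) := by
    intro n hn
    rw [← genI_map A f hn, h0]
    exact map_maximalIdeal_of_surjective (tr A f hn) (tr_surjective A f hf hn)
  have hhigh : ∀ n, n₀ ≤ n → genI A f (σ₀.image ℓ) n = maximalIdeal (A n) := by
    intro n hn
    induction n, hn using Nat.le_induction with
    | base => exact h0
    | succ n hn ih =>
      have hker : RingHom.ker ((f n).toAlgHom : A (n + 1) →+* A n) ≤ maximalIdeal (A (n + 1)) ^ 2 := by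
        apply ker_le_sq (f n) (hf n)
        change tgen A n = tgen A (n + 1)
        rw [hn₀ n hn, hn₀ (n + 1) (by omega)]
      have hmap : (genI A f (σ₀.image ℓ) (n + 1)).map ((f n).toAlgHom : A (n + 1) →+* A n) =
          maximalIdeal (A n) := by
        rw [← ih, ← genI_map A f (Nat.le_succ n), tr_succ]
      have hle : genI A f (σ₀.image ℓ) (n + 1) ≤ maximalIdeal (A (n + 1)) := by
        intro x hx
        have h1 : (f n) x ∈ maximalIdeal (A n) := by
          rw [← hmap]; exact Ideal.mem_map_of_mem _ hx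
        rw [ArtFun.Art.mem_maximalIdeal_iff] at h1 ⊢
        rw [← h1, ArtFun.Art.res_app]
      apply le_antisymm hle
      apply Submodule.le_of_le_smul_of_le_jacobson_bot
        (Ideal.fg_of_isNoetherianRing (maximalIdeal (A (n + 1))))
        (le_of_eq (IsLocalRing.jacobson_eq_maximalIdeal ⊥ bot_ne_top).symm)
      intro x hx
      have h1 : (f n) x ∈ maximalIdeal (A n) := by
        rw [ArtFun.Art.mem_maximalIdeal_iff] at hx ⊢
        rw [ArtFun.Art.res_app, hx]
      rw [← hmap] at h1
      obtain ⟨y, hy, hyx⟩ := (Ideal.mem_map_iff_of_surjective _ (hf n)).1 h1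
      have h2 : x - y ∈ maximalIdeal (A (n + 1)) ^ 2 := by
        apply hker
        rw [RingHom.mem_ker, map_sub, sub_eq_zero]
        exact hyx.symm
      rw [smul_eq_mul, ← pow_two]
      have : x = y + (x - y) := by ring
      rw [this]
      exact Submodule.add_mem_sup hy h2
  intro n
  rcases le_total n n₀ with h | h
  · exact hlow n h
  · exact hhigh n h

end Gen

end H9ArtLim
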