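import Mathlib

/-!
# A Mittag-Leffler lemma for inverse systems of cosets in Artinian modules
-/

universe u v

namespace H9ArtLim

section ML

variable {Λ : Type u} [CommRing Λ] (X : ℕ → Type v) [∀ n, AddCommGroup (X n)]
  [∀ n, Module Λ (X n)] [∀ n, IsArtinian Λ (X n)]
  (T : ∀ {n m : ℕ}, n ≤ m → X m →ₗ[Λ] X n)
  (T_trans : ∀ {n m l : ℕ} (h1 : n ≤ m) (h2 : m ≤ l) (x : X l), T h1 (T h2 x) = T (h1.trans h2) x)
  (Z : ∀ n, Submodule Λ (X n)) (e : ∀ n, X n)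
  (hZ : ∀ {n m : ℕ} (h : n ≤ m), ∀ z ∈ Z m, T h z ∈ Z n)
  (he : ∀ {n m : ℕ} (h : n ≤ m), T h (e m) - e n ∈ Z n)

/-- the image of `Z m` in `X n` -/
def W {n m : ℕ} (h : n ≤ m) : Submodule Λ (X n) := (Z m).map (T h)

include T_trans hZ in
lemma W_anti {n m l : ℕ} (h1 : n ≤ m) (h2 : m ≤ l) : W X T Z (h1.trans h2) ≤ W X T Z h1 := by
  rintro _ ⟨z, hz, rfl⟩
  exact ⟨T h2 z, hZ h2 z hz, T_trans h1 h2 z⟩

include T_trans hZ in
lemma exists_stab (n : ℕ) : ∃ μ, n ≤ μ ∧ ∀ m (hm : μ ≤ m) (hμ : n ≤ μ),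
    W X T Z (hμ.trans hm) = W X T Z hμ := by
  let g : ℕ →o (Submodule Λ (X n))ᵒᵈ :=
    ⟨fun j => OrderDual.toDual (W X T Z (Nat.le_add_right n j)), fun a b hab => by
      change W X T Z (Nat.le_add_right n b) ≤ W X T Z (Nat.le_add_right n a)
      exact W_anti X T T_trans Z hZ (Nat.le_add_right n a) (Nat.add_le_add_left hab n)⟩
  obtain ⟨j₀, hj₀⟩ := IsArtinian.monotone_stabilizes g
  refine ⟨n + j₀, Nat.le_add_right n j₀, fun m hm hμ => ?_⟩
  obtain ⟨j, rfl⟩ : ∃ j, m = n + j := ⟨m - n, by omega⟩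
  have := hj₀ j (by omega)
  exact (congrArg OrderDual.ofDual this).symm

include T_trans hZ he in
theorem ML : ∃ x : ∀ n, X n, (∀ n, x n - e n ∈ Z n) ∧
    ∀ n, T (Nat.le_succ n) (x (n + 1)) = x n := by
  choose μ hnμ hμ using exists_stab X T T_trans Z hZ
  -- `E n` : the coset; `F n` : the stable image
  let E : ∀ n, Set (X n) := fun n => {x | x - e n ∈ Z n}
  have hTE : ∀ {n m : ℕ} (h : n ≤ m) (y : X m), y ∈ E m → T h y ∈ E n := by
    intro n m h y hy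
    change T h y - e n ∈ Z n
    have : T h y - e n = T h (y - e m) + (T h (e m) - e n) := by
      rw [map_sub]; abel
    rw [this]
    exact (Z n).add_mem (hZ h _ hy) (he h)
  let F : ∀ n, Set (X n) := fun n => {x | ∃ y ∈ E (μ n), T (hnμ n) y = x}
  have hFE : ∀ n x, x ∈ F n → x ∈ E n := by
    rintro n x ⟨y, hy, rfl⟩
    exact hTE _ y hy
  have hA : ∀ n m (hm : μ n ≤ m) x, x ∈ F n →
      ∃ y ∈ E m, T ((hnμ n).trans hm) y = x := by
    rintro n m hm x ⟨y, hy, rfl⟩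
    -- a point of `E m`
    have hem : e m ∈ E m := by change e m - e m ∈ Z m; rw [sub_self]; exact (Z m).zero_mem
    have h1 : y - T hm (e m) ∈ Z (μ n) := by
      have h2 : T hm (e m) - e (μ n) ∈ Z (μ n) := he hm
      have : y - T hm (e m) = (y - e (μ n)) - (T hm (e m) - e (μ n)) := by abel
      rw [this]
      exact (Z (μ n)).sub_mem hy h2
    have h3 : T (hnμ n) (y - T hm (e m)) ∈ W X T Z (hnμ n) := ⟨_, h1, rfl⟩
    rw [← hμ n m hm (hnμ n)] at h3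
    obtain ⟨z, hz, hz'⟩ := h3
    refine ⟨e m + z, ?_, ?_⟩
    · change e m + z - e m ∈ Z m
      rw [add_sub_cancel_left]; exact hz
    · rw [map_add, hz', map_sub, T_trans]
      abel
  have hA' : ∀ n m (hm : μ n ≤ m) (y : X m), y ∈ E m → T ((hnμ n).trans hm) y ∈ F n := by
    intro n m hm y hy
    exact ⟨T hm y, hTE hm y hy, T_trans _ _ y⟩
  have hB : ∀ n x, x ∈ F n → ∃ x' ∈ F (n + 1), T (Nat.le_succ n) x' = x := by
    intro n x hx
    obtain ⟨y, hy, rfl⟩ := hA n (max (μ n) (μ (n + 1))) (le_max_left _ _) x hx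
    refine ⟨T ((hnμ (n + 1)).trans (le_max_right (μ n) (μ (n + 1)))) y,
      hA' (n + 1) _ (le_max_right _ _) y hy, ?_⟩
    rw [T_trans]
  have hF0 : ∃ x, x ∈ F 0 :=
    ⟨T (hnμ 0) (e (μ 0)), e (μ 0), by change e (μ 0) - e (μ 0) ∈ Z _; rw [sub_self]; exact zero_mem _, rfl⟩
  choose nxt hnxt1 hnxt2 using hB
  let xs : ∀ n, {x : X n // x ∈ F n} := fun n =>
    Nat.rec (motive := fun n => {x : X n // x ∈ F n}) ⟨hF0.choose, hF0.choose_spec⟩
      (fun n p => ⟨nxt n p.1 p.2, hnxt1 n p.1 p.2⟩) n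
  refine ⟨fun n => (xs n).1, fun n => hFE n _ (xs n).2, fun n => ?_⟩
  exact hnxt2 n (xs n).1 (xs n).2

end ML

end H9ArtLim
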