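import Mathlib
import Groth.Prelude.Def_ArtFun2
import Groth.Prelude.Def_ArtFun5
import Groth.Agent.Lib.Helper9.ArtLim.ML
import Groth.Agent.Lib.Helper9.ArtLim.Gen
import Groth.Agent.Lib.Helper3.ArtFunA
import Groth.Agent.Lib.Helper2.CompleteNoeth

universe u

open CategoryTheory IsLocalRing

namespace H9ArtLim

lemma exists_coeff {R : Type*} [CommRing R] {ι : Type*} [Fintype ι] (g : ι → R) (I : Ideal R)
    (x : R) (hx : x ∈ I * Ideal.span (Set.range g)) :
    ∃ c : ι → R, (∀ i, c i ∈ I) ∧ ∑ i, g i * c i = x := by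
  rw [← smul_eq_mul] at hx
  obtain ⟨a, ha, rfl⟩ := (Submodule.mem_ideal_smul_span_iff_exists_sum I g x).1 hx
  refine ⟨a, ha, ?_⟩
  rw [Finsupp.sum_fintype _ _ (fun i => by simp)]
  refine Finset.sum_congr rfl fun i _ => ?_
  rw [smul_eq_mul, mul_comm]

section Main

variable {Λ : Type u} {k : Type u} [CommRing Λ] [Field k] [Algebra Λ k]
variable (A : ℕ → ArtFun.Art Λ k) (f : ∀ n, A (n + 1) ⟶ A n)

/-- elements all of whose components lie in the `r`-th power of the maximal ideal -/
def Mr (r : ℕ) : Ideal (Lim A f) := ⨅ n, (maximalIdeal (A n) ^ r).comap (proj A f n)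

lemma mem_Mr {r : ℕ} {s : Lim A f} :
    s ∈ Mr A f r ↔ ∀ n, proj A f n s ∈ maximalIdeal (A n) ^ r := by
  simp [Mr, Ideal.mem_iInf, Ideal.mem_comap]

lemma Mr_zero : Mr A f 0 = ⊤ := by
  rw [eq_top_iff]
  intro s _
  rw [mem_Mr]
  intro n
  rw [pow_zero, Ideal.one_eq_top]
  trivial

lemma Mr_mul_le (a b : ℕ) : Mr A f a * Mr A f b ≤ Mr A f (a + b) := by
  rw [Ideal.mul_le]
  intro x hx y hy
  rw [mem_Mr] at hx hy ⊢
  intro n
  rw [map_mul, pow_add]
  exact Ideal.mul_mem_mul (hx n) (hy n)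

lemma tr_mem_pow {n m : ℕ} (h : n ≤ m) (r : ℕ) (x : A m) (hx : x ∈ maximalIdeal (A m) ^ r) :
    tr A f h x ∈ maximalIdeal (A n) ^ r := by
  have h1 : (maximalIdeal (A m)).map ((tr A f h).toAlgHom : A m →+* A n) ≤ maximalIdeal (A n) := by
    rw [Ideal.map_le_iff_le_comap]
    intro b hb
    rw [Ideal.mem_comap]
    change tr A f h b ∈ _
    rw [ArtFun.Art.mem_maximalIdeal_iff, ArtFun.Art.res_app, ← ArtFun.Art.mem_maximalIdeal_iff]
    exact hb
  have h2 := Ideal.mem_map_of_mem ((tr A f h).toAlgHom : A m →+* A n) hx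
  rw [Ideal.map_pow] at h2
  exact Ideal.pow_right_mono h1 r h2

section F2

variable [Module.Finite Λ k] (σ : Finset (Lim A f))

/-- the transition maps on coefficient vectors -/
def TT {n m : ℕ} (h : n ≤ m) : (σ → A m) →ₗ[Λ] (σ → A n) :=
  LinearMap.compLeft ((tr A f h).toAlgHom.toLinearMap) σ

lemma TT_apply {n m : ℕ} (h : n ≤ m) (c : σ → A m) (i : σ) :
    TT A f σ h c i = tr A f h (c i) := rfl

/-- the homogeneous equation -/
def ZZ (r n : ℕ) : Submodule Λ (σ → A n) where
  carrier := {c | (∀ i, c i ∈ maximalIdeal (A n) ^ r) ∧ ∑ i : σ, proj A f n i.1 * c i = 0}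
  add_mem' {a b} ha hb := by
    refine ⟨fun i => Ideal.add_mem _ (ha.1 i) (hb.1 i), ?_⟩
    simp only [Pi.add_apply, mul_add, Finset.sum_add_distrib, ha.2, hb.2, add_zero]
  zero_mem' := ⟨fun i => Ideal.zero_mem _, by simp⟩
  smul_mem' a c hc := by
    refine ⟨fun i => ?_, ?_⟩
    · rw [Pi.smul_apply, Algebra.smul_def]
      exact Ideal.mul_mem_left _ _ (hc.1 i)
    · simp only [Pi.smul_apply, mul_smul_comm]
      rw [← Finset.smul_sum, hc.2, smul_zero]

lemma mem_ZZ {r n : ℕ} {c : σ → A n} : c ∈ ZZ A f σ r n ↔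
    (∀ i, c i ∈ maximalIdeal (A n) ^ r) ∧ ∑ i : σ, proj A f n i.1 * c i = 0 := Iff.rfl

theorem Mr_succ_le (hσ : ∀ n, genI A f σ n = maximalIdeal (A n)) (r : ℕ) :
    Mr A f (r + 1) ≤ Ideal.span (σ : Set (Lim A f)) * Mr A f r := by
  intro τ hτ
  rw [mem_Mr] at hτ
  haveI : ∀ n, IsArtinian Λ (A n) := fun n => Groth.Agent.Helper3.ArtFunLib.isArtinian_art (A n)
  -- base points
  have hex : ∀ n, ∃ c : σ → A n, (∀ i, c i ∈ maximalIdeal (A n) ^ r) ∧
      ∑ i : σ, proj A f n i.1 * c i = proj A f n τ := by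
    intro n
    apply exists_coeff
    have : Ideal.span (Set.range fun i : σ => proj A f n i.1) = maximalIdeal (A n) := by
      rw [← hσ n]
      unfold genI
      rw [Set.image_eq_range]
      rfl
    rw [this, ← pow_succ]
    exact hτ n
  choose e he1 he2 using hex
  obtain ⟨x, hx1, hx2⟩ := ML (Λ := Λ) (fun n => σ → A n) (fun h => TT A f σ h)
    (fun h1 h2 c => by
      funext i
      rw [TT_apply, TT_apply, TT_apply, tr_trans_apply])
    (fun n => ZZ A f σ r n) e
    (fun {n m} h z hz => by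
      rw [mem_ZZ] at hz ⊢
      refine ⟨fun i => tr_mem_pow A f h r _ (hz.1 i), ?_⟩
      have : ∑ i : σ, proj A f n i.1 * TT A f σ h z i =
          tr A f h (∑ i : σ, proj A f m i.1 * z i) := by
        change _ = (tr A f h).toAlgHom _
        rw [map_sum]
        refine Finset.sum_congr rfl fun i _ => ?_
        rw [map_mul]
        change _ = tr A f h (proj A f m i.1) * tr A f h (z i)
        rw [proj_tr]; rfl
      rw [this, hz.2]
      exact map_zero (tr A f h).toAlgHom)
    (fun {n m} h => by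
      rw [mem_ZZ]
      refine ⟨fun i => Ideal.sub_mem _ (tr_mem_pow A f h r _ (he1 m i)) (he1 n i), ?_⟩
      have : ∑ i : σ, proj A f n i.1 * TT A f σ h (e m) i =
          tr A f h (∑ i : σ, proj A f m i.1 * e m i) := by
        change _ = (tr A f h).toAlgHom _
        rw [map_sum]
        refine Finset.sum_congr rfl fun i _ => ?_
        rw [map_mul]
        change _ = tr A f h (proj A f m i.1) * tr A f h (e m i)
        rw [proj_tr]; rfl
      simp only [Pi.sub_apply, mul_sub, Finset.sum_sub_distrib]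
      rw [this, he2, he2, proj_tr, sub_self])
  -- the coefficients in the limit
  let c : σ → Lim A f := fun i => mkLim A f (fun n => x n i) (fun n => by
    have := congrFun (hx2 n) i
    rw [TT_apply, tr_succ_apply] at this
    exact this)
  have hc : ∀ i, c i ∈ Mr A f r := by
    intro i
    rw [mem_Mr]
    intro n
    rw [proj_mkLim]
    have h1 := ((mem_ZZ A f σ).1 (hx1 n)).1 i
    have : x n i = (x n - e n) i + e n i := by simp
    rw [this]
    exact Ideal.add_mem _ h1 (he1 n i)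
  have hsum : τ = ∑ i : σ, i.1 * c i := by
    apply lim_ext
    intro n
    rw [map_sum]
    have h1 := ((mem_ZZ A f σ).1 (hx1 n)).2
    simp only [Pi.sub_apply, mul_sub, Finset.sum_sub_distrib, he2, sub_eq_zero] at h1
    rw [← h1]
    refine Finset.sum_congr rfl fun i _ => ?_
    rw [map_mul, proj_mkLim]
  rw [hsum]
  apply Ideal.sum_mem
  intro i _
  exact Ideal.mul_mem_mul (Ideal.subset_span i.2) (hc i)

lemma span_le_Mr_one (hσ : ∀ n, genI A f σ n = maximalIdeal (A n)) :
    Ideal.span (σ : Set (Lim A f)) ≤ Mr A f 1 := by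
  rw [Ideal.span_le]
  intro s hs
  change s ∈ Mr A f 1
  rw [mem_Mr]
  intro n
  rw [pow_one, ← hσ n]
  exact Ideal.subset_span ⟨s, hs, rfl⟩

theorem Mr_eq_pow (hσ : ∀ n, genI A f σ n = maximalIdeal (A n)) (r : ℕ) :
    Mr A f r = Ideal.span (σ : Set (Lim A f)) ^ r := by
  induction r with
  | zero => rw [Mr_zero, pow_zero, Ideal.one_eq_top]
  | succ r ih =>
    apply le_antisymm
    · refine (Mr_succ_le A f σ hσ r).trans ?_
      rw [ih, ← pow_succ']
    · rw [pow_succ, ← ih]
      exact (Ideal.mul_mono_right (span_le_Mr_one A f σ hσ)).trans (Mr_mul_le A f r 1)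

lemma maximalIdeal_eq_Mr_one [IsLocalRing (Lim A f)] : maximalIdeal (Lim A f) = Mr A f 1 := by
  ext s
  rw [mem_Mr]
  constructor
  · intro h n
    rw [pow_one]
    exact (mem_maximalIdeal_lim' A f s n).1 h
  · intro h
    have := h 0
    rw [pow_one] at this
    exact (mem_maximalIdeal_lim' A f s 0).2 this

theorem maximalIdeal_pow_eq_Mr [IsLocalRing (Lim A f)]
    (hσ : ∀ n, genI A f σ n = maximalIdeal (A n)) (r : ℕ) :
    maximalIdeal (Lim A f) ^ r = Mr A f r := by
  rw [maximalIdeal_eq_Mr_one, Mr_eq_pow A f σ hσ 1, pow_one, Mr_eq_pow A f σ hσ r]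

theorem maximalIdeal_fg [IsLocalRing (Lim A f)]
    (hσ : ∀ n, genI A f σ n = maximalIdeal (A n)) : (maximalIdeal (Lim A f)).FG := by
  rw [maximalIdeal_eq_Mr_one, Mr_eq_pow A f σ hσ 1, pow_one]
  exact ⟨σ, rfl⟩

lemma exists_pow_eq_bot (B : ArtFun.Art Λ k) : ∃ n, maximalIdeal B ^ n = ⊥ := by
  have := IsArtinianRing.isNilpotent_jacobson_bot (R := B)
  rw [IsLocalRing.jacobson_eq_maximalIdeal ⊥ bot_ne_top] at this
  exact this

theorem isAdicComplete_lim [IsLocalRing (Lim A f)]
    (hσ : ∀ n, genI A f σ n = maximalIdeal (A n)) :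
    IsAdicComplete (maximalIdeal (Lim A f)) (Lim A f) := by
  choose ν₀ hν₀ using fun n => exists_pow_eq_bot (A n)
  let ν : ℕ → ℕ := fun n => ∑ j ∈ Finset.range (n + 1), ν₀ j
  have hνmono : ∀ n, ν n ≤ ν (n + 1) := fun n => by
    change _ ≤ ∑ j ∈ Finset.range (n + 1 + 1), ν₀ j
    rw [Finset.sum_range_succ _ (n + 1)]
    exact Nat.le_add_right _ _
  have hν₀le : ∀ n, ν₀ n ≤ ν n := fun n => by
    change _ ≤ ∑ j ∈ Finset.range (n + 1), ν₀ j
    rw [Finset.sum_range_succ]
    exact Nat.le_add_left _ _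
  have hν : ∀ n, maximalIdeal (A n) ^ ν n = ⊥ := fun n => by
    rw [eq_bot_iff, ← hν₀ n]
    exact Ideal.pow_le_pow_right (hν₀le n)
  have hmem : ∀ (r : ℕ) (x : Lim A f), x ∈ maximalIdeal (Lim A f) ^ r →
      ∀ n, proj A f n x ∈ maximalIdeal (A n) ^ r := by
    intro r x hx
    rw [maximalIdeal_pow_eq_Mr A f σ hσ r, mem_Mr] at hx
    exact hx
  have hzero : ∀ (r n : ℕ) (x : Lim A f), ν n ≤ r → x ∈ maximalIdeal (Lim A f) ^ r →
      proj A f n x = 0 := by
    intro r n x hr hx
    have h1 := Ideal.pow_le_pow_right hr (hmem r x hx n)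
    rw [hν n] at h1
    exact h1
  have hH : IsHausdorff (maximalIdeal (Lim A f)) (Lim A f) := by
    refine ⟨fun x hx => ?_⟩
    apply lim_ext
    intro n
    rw [map_zero]
    apply hzero (ν n) n x le_rfl
    have := hx (ν n)
    rw [SModEq.zero, smul_eq_mul, Ideal.mul_top] at this
    exact this
  have hP : IsPrecomplete (maximalIdeal (Lim A f)) (Lim A f) := by
    refine ⟨fun g hg => ?_⟩
    have hg' : ∀ {a b : ℕ}, a ≤ b → g a - g b ∈ maximalIdeal (Lim A f) ^ a := by
      intro a b hab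
      have := hg hab
      rw [SModEq.sub_mem, smul_eq_mul, Ideal.mul_top] at this
      exact this
    have hconst : ∀ n a b, ν n ≤ a → ν n ≤ b → proj A f n (g a) = proj A f n (g b) := by
      intro n a b ha hb
      rcases le_total a b with hab | hab
      · have := hzero a n _ ha (hg' hab)
        rwa [map_sub, sub_eq_zero] at this
      · have := hzero b n _ hb (hg' hab)
        rw [map_sub, sub_eq_zero] at this
        exact this.symm
    let L : Lim A f := mkLim A f (fun n => proj A f n (g (ν n))) (fun n => by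
      rw [proj_compat]
      exact hconst n _ _ (hνmono n) le_rfl)
    refine ⟨L, fun r => ?_⟩
    rw [SModEq.sub_mem, smul_eq_mul, Ideal.mul_top, maximalIdeal_pow_eq_Mr A f σ hσ r, mem_Mr]
    intro n
    rw [map_sub, proj_mkLim]
    rcases le_total r (ν n) with hr | hr
    · rw [← map_sub]
      exact hmem r _ (hg' hr) n
    · rw [hconst n r (ν n) hr le_rfl, sub_self]
      exact Ideal.zero_mem _
  exact { }

end F2

section Final

variable [Module.Finite Λ k] (hf : ∀ n, Function.Surjective (f n)) (σ : Finset (Lim A f))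
  (hσ : ∀ n, genI A f σ n = maximalIdeal (A n))

include hσ in
lemma isNoetherianRing_lim [IsLocalRing (Lim A f)] : IsNoetherianRing (Lim A f) := by
  have hfg := maximalIdeal_fg A f σ hσ
  haveI := isAdicComplete_lim A f σ hσ
  haveI : IsNoetherianRing (Lim A f ⧸ maximalIdeal (Lim A f)) :=
    show IsNoetherianRing (ResidueField (Lim A f)) from inferInstance
  exact Groth.Agent.Helper2.CompleteNoeth.isNoetherianRing_of_isAdicComplete
    (maximalIdeal (Lim A f)) hfg

/-- the limit as a `CRing` -/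
noncomputable def limCRing : ArtFun.CRing Λ k :=
  letI := isLocalRing_lim A f
  letI := isNoetherianRing_lim A f σ hσ
  { carrier := Lim A f
    res := resLim A f
    res_surjective := resLim_surjective A f hf
    isAdicComplete := isAdicComplete_lim A f σ hσ }

/-- the projections as points -/
noncomputable def limPt (n : ℕ) :
    ArtFun.HomSet (limCRing A f hf σ hσ).carrier (limCRing A f hf σ hσ).res (A n) :=
  ⟨proj A f n, AlgHom.ext (res_proj A f n)⟩

lemma ker_proj_anti {a b : ℕ} (h : a ≤ b) :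
    RingHom.ker (proj A f b) ≤ RingHom.ker (proj A f a) := by
  intro s hs
  rw [RingHom.mem_ker] at hs ⊢
  rw [← proj_tr A f h s, hs]
  exact map_zero (tr A f h).toAlgHom

include hσ in
theorem exists_ker_le [IsLocalRing (Lim A f)] (n : ℕ)
    [IsArtinianRing (Lim A f ⧸ maximalIdeal (Lim A f) ^ (n + 1))] : ∃ N, RingHom.ker (proj A f N) ≤ maximalIdeal (Lim A f) ^ (n + 1) := by
  let mk := Ideal.Quotient.mk (maximalIdeal (Lim A f) ^ (n + 1))
  let I : ℕ →o (Ideal (Lim A f ⧸ maximalIdeal (Lim A f) ^ (n + 1)))ᵒᵈ :=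
    ⟨fun N => OrderDual.toDual ((RingHom.ker (proj A f N)).map mk), fun a b hab => by
      change (RingHom.ker (proj A f b)).map mk ≤ (RingHom.ker (proj A f a)).map mk
      exact Ideal.map_mono (ker_proj_anti A f hab)⟩
  obtain ⟨N₀, hN₀⟩ := IsArtinian.monotone_stabilizes I
  refine ⟨N₀, fun s hs => ?_⟩
  rw [maximalIdeal_pow_eq_Mr A f σ hσ, mem_Mr]
  intro j
  rcases le_total j N₀ with hj | hj
  · have := ker_proj_anti A f hj hs
    rw [RingHom.mem_ker] at this
    rw [this]
    exact Ideal.zero_mem _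
  · have h1 : mk s ∈ (RingHom.ker (proj A f N₀)).map mk := Ideal.mem_map_of_mem _ hs
    have h2 : (RingHom.ker (proj A f N₀)).map mk = (RingHom.ker (proj A f j)).map mk :=
      congrArg OrderDual.ofDual (hN₀ j hj)
    rw [h2] at h1
    obtain ⟨a, ha, has⟩ := (Ideal.mem_map_iff_of_surjective mk Ideal.Quotient.mk_surjective).1 h1
    have h3 : s - a ∈ maximalIdeal (Lim A f) ^ (n + 1) := by
      rw [← Ideal.Quotient.eq]; exact has.symm
    rw [maximalIdeal_pow_eq_Mr A f σ hσ, mem_Mr] at h3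
    have h4 := h3 j
    rw [map_sub, RingHom.mem_ker.1 ha, sub_zero] at h4
    exact h4

end Final

theorem main [IsNoetherianRing Λ] [Module.Finite Λ k]
    (hf : ∀ n, Function.Surjective (f n))
    (d : ℕ) (hd : ∀ n, Module.finrank (IsLocalRing.ResidueField (A n)) (IsLocalRing.CotangentSpace (A n)) ≤ d) :
    ∃ (S : ArtFun.CRing Λ k) (π : ∀ n, ArtFun.HomSet S.carrier S.res (A n)),
      (∀ n, ArtFun.HomSet.map (f n) (π (n + 1)) = π n) ∧
      (∀ n, Function.Surjective (π n).1) ∧
      (∀ a : ∀ n, A n, (∀ n, f n (a (n + 1)) = a n) → ∃! s : S.carrier, ∀ n, (π n).1 s = a n) ∧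
      (∀ n, ∃ N, RingHom.ker (π N).1 ≤ IsLocalRing.maximalIdeal S.carrier ^ n) ∧
      (∀ n, ∃ N, IsLocalRing.maximalIdeal S.carrier ^ N ≤ RingHom.ker (π n).1) := by
  obtain ⟨σ, hσ⟩ := exists_gens A f hf d hd
  refine ⟨limCRing A f hf σ hσ, limPt A f hf σ hσ, ?_, ?_, ?_, ?_, ?_⟩
  · intro n
    exact Subtype.ext (AlgHom.ext (proj_compat A f n))
  · intro n
    exact proj_surjective A f hf n
  · intro a ha
    refine ⟨mkLim A f a ha, fun n => rfl, fun s hs => ?_⟩
    apply lim_ext
    intro n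
    exact hs n
  · intro n
    cases n with
    | zero => exact ⟨0, by rw [pow_zero, Ideal.one_eq_top]; exact le_top⟩
    | succ n =>
      haveI : IsArtinianRing ((limCRing A f hf σ hσ).carrier ⧸
          maximalIdeal (limCRing A f hf σ hσ).carrier ^ (n + 1)) :=
        ArtFun.CRing.isArtinianRing_quot_mpow (limCRing A f hf σ hσ) n
      exact @exists_ker_le _ _ _ _ _ A f _ σ hσ (limCRing A f hf σ hσ).isLocalRing n this
  · intro n
    obtain ⟨N, hN⟩ := exists_pow_eq_bot (A n)
    refine ⟨N, fun s hs => ?_⟩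
    have h1 : s ∈ Mr A f N := by
      rw [← @maximalIdeal_pow_eq_Mr _ _ _ _ _ A f _ σ (limCRing A f hf σ hσ).isLocalRing hσ N]
      exact hs
    have h2 := (mem_Mr A f (s := (s : Lim A f))).1 h1 n
    rw [hN] at h2
    exact h2

end Main


end H9ArtLim
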